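import Cfsg.Agent.H808.Gs.Levi

/-!
# Growing with root groups (S4327, E6, bad graph case), helper808

Simply laced root group data `R`; `x : MulAut Y`.

* `bil`, `cpr_eq_bil` : the pairing, computably;
* `X_add_le`, `X_neg_le`, `comm_X'` ;
* `start_six` : the start: `x` and five conjugates generate the root groups of an `A₂` commuting with its image;
* `Good`, `Good.step` : one more conjugate.
-/

set_option autoImplicit false
set_option linter.unusedSectionVars false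

namespace Cfsg.Agent.H808.Gs

open CoxeterSystem Cfsg.Agent.ChevalleyStructure.CoxeterGeom Cfsg.Agent.Tits.Roots Cfsg.Agent.Tits.Core
  Cfsg.Agent.Tits.Exchange Cfsg.Agent.Nodes.Reps Cfsg.Agent.Nodes.BNOf Cfsg.Agent.Nodes.StabComb
  Cfsg.Agent.Nodes.Bruhat Cfsg.Agent.Nodes.OppDec Cfsg.Agent.Nodes.LeviDec Cfsg.Agent.Nodes.NormalForm
  Cfsg.Agent.Nodes.Coroot Cfsg.Agent.Nodes.PosPair
open Cfsg.Agent.KFacts.RgdOpp Cfsg.Agent.KFacts.RgdAut Cfsg.Agent.KFacts.RgdDiag Cfsg.Agent.KFacts.RgdRigid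
  Cfsg.Agent.KFacts.RgdVJ Cfsg.Agent.KFacts.RgdSL Cfsg.Agent.H441.GS
open Cfsg.Agent.H915.Gs (Reach Reach₁ im)
open scoped commutatorElement

variable {I W Y : Type*} [Fintype I] [DecidableEq I] [Group W] [Group Y] {M : CoxeterMatrix I}
  {cs : CoxeterSystem M W} {A : I → I → ℤ} {h : IsCartan M A} {p : ℕ} {T : Subgroup Y} {n : I → Y}
  {X : (I → ℤ) → Subgroup Y}

/-! ### the pairing -/

/-- the pairing, computably -/
def bil (A : I → I → ℤ) (x y : I → ℤ) : ℤ := ∑ i, x i * pairing A i y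

theorem cpr_eq_bil [Finite W] (hs : SL cs h) (x : I → ℤ) {y : I → ℤ} (hy : IsRoot cs h y) :
    cpr cs h x y = bil A x y := by
  have key : ∀ s : Finset I, cpr cs h (∑ i ∈ s, x i • sr i) y = ∑ i ∈ s, x i * pairing A i y := by
    intro s
    induction s using Finset.induction_on with
    | empty =>
      have := cpr_smul cs h 0 (0 : I → ℤ) hy
      rw [zero_smul, zero_mul] at this
      rw [Finset.sum_empty, Finset.sum_empty, this]
    | insert i s hi ih =>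
      rw [Finset.sum_insert hi, Finset.sum_insert hi, cpr_add cs h _ _ hy, ih, cpr_smul cs h _ _ hy,
        hs _ _ (isRoot_sr cs h i) hy, cpr_sr]
  have := key Finset.univ
  rwa [← Cfsg.Agent.KFacts.RgdPar.eq_sum_sr x] at this

section RG

variable (R : RGD cs h p T n X) [Finite W] (hs : SL cs h)

include R

include hs in
theorem comm_X' {x y : I → ℤ} (hx : IsRoot cs h x) (hy : IsRoot cs h y) (hc : 0 ≤ cpr cs h x y) (hxy : x ≠ y)
    {u v : Y} (hu : u ∈ X x) (hv : v ∈ X y) : u * v = v * u := by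
  refine comm_of_not_btwn R hx hy hxy ?_ (hs.not_btwn hx hy hxy hc) hu hv
  rintro rfl
  rw [cpr_neg_left _ hy, cpr_self cs h hy] at hc
  omega

include hs in
theorem X_add_le {x y : I → ℤ} (hx : IsRoot cs h x) (hy : IsRoot cs h y) (hc : cpr cs h x y = -1) {J : Subgroup Y}
    (h1 : X x ≤ J) (h2 : X y ≤ J) : X (x + y) ≤ J := by
  intro q hq
  obtain ⟨u, hu, hu1⟩ := exists_ne R hx
  obtain ⟨v, hv, rfl⟩ := (hs.a2 hx hy hc).comm_surj R hu hu1 hq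
  rw [commutatorElement_def]
  exact mul_mem (mul_mem (mul_mem (h1 hu) (h2 hv)) (inv_mem (h1 hu))) (inv_mem (h2 hv))

theorem X_neg_le {r : I → ℤ} (hr : IsRoot cs h r) {D : Subgroup Y} {g : Y} (hg : g ∈ X (-r)) (hg1 : g ≠ 1)
    (hD : ∀ y ∈ D, g * y * g⁻¹ ∈ D) (h1 : X r ≤ D) : X (-r) ≤ D := by
  obtain ⟨s, hs, a, ha, b, hb, m, hm, e⟩ := exists_mu R hr.neg hg hg1
  rw [neg_neg] at ha hb
  have h2 : cj m (X r) = X (-r) := by
    rw [R.conj_rp hm hr, hs, cpr_neg_right cs h r hr, cpr_self cs h hr]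
    congr 1
    module
  rw [← h2]
  intro y hy
  rw [mem_cj] at hy
  have e2 : y = a * (g * (b * (m⁻¹ * y * m) * b⁻¹) * g⁻¹) * a⁻¹ := by
    rw [e]
    group
  rw [e2]
  exact D.mul_mem (D.mul_mem (h1 ha) (hD _ (D.mul_mem (D.mul_mem (h1 hb) (h1 hy)) (D.inv_mem (h1 hb)))))
    (D.inv_mem (h1 ha))

include hs in
/-- a group commuting with its image -/
theorem com_of_orth {x : MulAut Y} {ρ : (I → ℤ) → I → ℤ} {S : Set (I → ℤ)} (hS : ∀ r ∈ S, IsRoot cs h r)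
    (hρ : ∀ r ∈ S, IsRoot cs h (ρ r) ∧ ∀ y ∈ X r, x y ∈ X (ρ r))
    (horth : ∀ a ∈ S, ∀ b ∈ S, cpr cs h a (ρ b) = 0) :
    ∀ u ∈ RGD.Sup X S, ∀ v ∈ RGD.Sup X S, u * x v = x v * u := by
  have h1 : RGD.Sup X S ≤ (Subgroup.centralizer (RGD.Sup X S : Set Y)).comap x.toMonoidHom := by
    refine RGD.Sup_le fun b hb v hv => ?_
    have h2 : RGD.Sup X S ≤ Subgroup.centralizer {x v} := by
      refine RGD.Sup_le fun a ha u hu => ?_
      rw [Subgroup.mem_centralizer_singleton_iff]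
      refine comm_X' R hs (hS a ha) (hρ b hb).1 (horth a ha b hb).ge ?_ hu ((hρ b hb).2 v hv)
      intro h3
      have h4 := horth a ha b hb
      rw [← h3, cpr_self cs h (hS a ha)] at h4
      omega
    change x v ∈ Subgroup.centralizer (RGD.Sup X S : Set Y)
    rw [Subgroup.mem_centralizer_iff]
    exact fun u hu => Subgroup.mem_centralizer_singleton_iff.1 (h2 hu)
  intro u hu v hv
  exact Subgroup.mem_centralizer_iff.1 (h1 hv) u hu

include hs in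
/-- **The start.** -/
theorem start_six {x : MulAut Y} {r₁ r₂ : I → ℤ} (hr₁ : IsRoot cs h r₁) (hr₂ : IsRoot cs h r₂)
    (h12 : cpr cs h r₁ r₂ = -1) {N : Subgroup Y} (hN₁ : X r₁ ≤ N) (hN₁' : X (-r₁) ≤ N) (hN₂ : X r₂ ≤ N)
    (hN₂' : X (-r₂) ≤ N) (hcom : ∀ u ∈ N, ∀ v ∈ N, u * x v = x v * u) {g₂ : Y} (hg₂ : g₂ ∈ N)
    (hgen : ∀ D : Subgroup Y, (∀ y ∈ D, g₂ * y * g₂⁻¹ ∈ D) → ∀ u ∈ X (r₁ + r₂), u ≠ 1 → u ∈ D → X (r₁ + r₂) ≤ D) :
    ∃ J, Reach₁ x 5 J ∧ X r₁ ≤ J ∧ X (-r₁) ≤ J ∧ X r₂ ≤ J ∧ X (-r₂) ≤ J := by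
  have h21 : cpr cs h r₂ r₁ = -1 := by rw [← hs r₁ r₂ hr₁ hr₂, h12]
  have hr : IsRoot cs h (r₁ + r₂) := isRoot_add hr₁ hr₂ h12
  have A12 := hs.a2 hr₁ hr₂ h12
  have c1 : cpr cs h r₁ (-(r₁ + r₂)) = -1 := by
    rw [cpr_neg_right cs h _ hr, hs _ _ hr₁ hr, cpr_add cs h _ _ hr₁, cpr_self cs h hr₁, h21]; norm_num
  have c2 : cpr cs h r₂ (-(r₁ + r₂)) = -1 := by
    rw [cpr_neg_right cs h _ hr, hs _ _ hr₂ hr, cpr_add cs h _ _ hr₂, cpr_self cs h hr₂, h12]; norm_num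
  have c3 : cpr cs h (r₁ + r₂) (-r₂) = -1 := by
    rw [cpr_neg_right cs h _ hr₂, cpr_add cs h _ _ hr₂, cpr_self cs h hr₂, h12]; norm_num
  have c4 : cpr cs h (r₁ + r₂) (-r₁) = -1 := by
    rw [cpr_neg_right cs h _ hr₁, cpr_add cs h _ _ hr₁, cpr_self cs h hr₁, h21]; norm_num
  have c5 : cpr cs h (-r₁) (-r₂) = -1 := by
    rw [cpr_neg_right cs h _ hr₂, cpr_neg_left _ hr₂, h12]; norm_num
  have s1 : r₁ + -(r₁ + r₂) = -r₂ := by abel
  have s2 : r₂ + -(r₁ + r₂) = -r₁ := by abel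
  have s3 : r₁ + r₂ + -r₂ = r₁ := by abel
  have s4 : r₁ + r₂ + -r₁ = r₂ := by abel
  have s5 : -r₁ + -r₂ = -(r₁ + r₂) := by abel
  obtain ⟨a, ha, ha1⟩ := exists_ne R hr₁
  obtain ⟨b, hb, hb1⟩ := exists_ne R hr₂
  obtain ⟨g₁, hg₁, hg₁1⟩ := exists_ne R hr.neg
  have hg₁N : g₁ ∈ N := by
    have := X_add_le R hs hr₁.neg hr₂.neg c5 hN₁' hN₂'
    rw [s5] at this
    exact this hg₁
  refine ⟨X r₁ ⊔ X (-r₁) ⊔ (X r₂ ⊔ X (-r₂)), start hcom (hN₁ ha) (hN₂ hb) hg₁N hg₂ ?_, ?_, ?_, ?_, ?_⟩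
  · intro D hD hDg
    have hDa : ∀ y ∈ D, a * y * a⁻¹ ∈ D := hDg a (Or.inl rfl)
    have hDb : ∀ y ∈ D, b * y * b⁻¹ ∈ D := hDg b (Or.inr (Or.inl rfl))
    have hD1 : ∀ y ∈ D, g₁ * y * g₁⁻¹ ∈ D := hDg g₁ (Or.inr (Or.inr (Or.inl rfl)))
    have hD2 : ∀ y ∈ D, g₂ * y * g₂⁻¹ ∈ D := hDg g₂ (Or.inr (Or.inr (Or.inr rfl)))
    have P12 : X (r₁ + r₂) ≤ D := by
      refine hgen D hD2 _ (A12.comm_mem R (inv_mem ha) (inv_mem hb)) ?_ hD
      exact A12.comm_ne_one R (inv_mem ha) (inv_ne_one.2 ha1) (inv_mem hb) (inv_ne_one.2 hb1)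
    have P12' : X (-(r₁ + r₂)) ≤ D := X_neg_le R hr hg₁ hg₁1 hD1 P12
    have P2' : X (-r₂) ≤ D := by
      intro q hq
      obtain ⟨v, hv, rfl⟩ := (hs.a2 hr₁ hr.neg c1).comm_surj R ha ha1 (by rwa [s1])
      rw [commutatorElement_def]
      exact D.mul_mem (hDa _ (P12' hv)) (D.inv_mem (P12' hv))
    have P1' : X (-r₁) ≤ D := by
      intro q hq
      obtain ⟨v, hv, rfl⟩ := (hs.a2 hr₂ hr.neg c2).comm_surj R hb hb1 (by rwa [s2])
      rw [commutatorElement_def]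
      exact D.mul_mem (hDb _ (P12' hv)) (D.inv_mem (P12' hv))
    have P1 : X r₁ ≤ D := by
      have := X_add_le R hs hr hr₂.neg c3 P12 P2'
      rwa [s3] at this
    have P2 : X r₂ ≤ D := by
      have := X_add_le R hs hr hr₁.neg c4 P12 P1'
      rwa [s4] at this
    exact sup_le (sup_le P1 P1') (sup_le P2 P2')
  · exact le_sup_of_le_left le_sup_left
  · exact le_sup_of_le_left le_sup_right
  · exact le_sup_of_le_right le_sup_left
  · exact le_sup_of_le_right le_sup_right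

end RG

/-! ### one more conjugate -/

/-- `x`, `s` conjugates reach the `x`-invariant group `J` -/
def Good (x : MulAut Y) (s : ℕ) (J : Subgroup Y) : Prop := Reach₁ x s J ∧ ∀ y ∈ J, x y ∈ J

theorem sq_apply {x : MulAut Y} (hx : x * x = 1) (y : Y) : x (x y) = y := by
  rw [← MulAut.mul_apply, hx, MulAut.one_apply]

theorem Good.of {x : MulAut Y} (hx : x * x = 1) {s : ℕ} {J : Subgroup Y} (hJ : Reach₁ x s J) :
    Good x s (J ⊔ im x J) := by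
  refine ⟨hJ.im, ?_⟩
  have h1 : J ⊔ im x J ≤ (J ⊔ im x J).comap x.toMonoidHom := by
    refine sup_le (fun y hy => ?_) ?_
    · change x y ∈ J ⊔ im x J
      exact Subgroup.mem_sup_right ⟨y, hy, rfl⟩
    · rintro _ ⟨y, hy, rfl⟩
      change x (x y) ∈ J ⊔ im x J
      rw [sq_apply hx]
      exact Subgroup.mem_sup_left hy
  exact fun y hy => h1 hy

theorem Good.grow {x : MulAut Y} (hx : x * x = 1) {s : ℕ} {J : Subgroup Y} (G : Good x s J) {g : Y}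
    {J₀ : Subgroup Y} (hJ : cj g J₀ ≤ J) : ∃ J', Good x (s + 1) J' ∧ J ≤ J' ∧ cj g (im x J₀) ≤ J' := by
  have h1 : Reach₁ x (s + 1) (J ⊔ cj g (im x J₀)) := grow₁ G.1 hJ
  exact ⟨_, Good.of hx h1, le_sup_of_le_left le_sup_left, le_sup_of_le_left le_sup_right⟩

/-- **One more conjugate**: the root group of `f + b`, `X_b = x X_a`, `X_f` commuting with `X_a`. -/
theorem Good.step (R : RGD cs h p T n X) [Finite W] (hs : SL cs h) {x : MulAut Y} (hx : x * x = 1) {s : ℕ}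
    {J : Subgroup Y} (G : Good x s J) {a b f : I → ℤ} (ha : IsRoot cs h a) (hb : IsRoot cs h b)
    (hf : IsRoot cs h f) (hab : ∀ y, x y ∈ X b ↔ y ∈ X a) (haJ : X a ≤ J) (hfa : 0 ≤ cpr cs h f a) (hne : f ≠ a)
    (hfb : cpr cs h f b = -1) : ∃ J', Good x (s + 1) J' ∧ J ≤ J' ∧ X (f + b) ≤ J' := by
  obtain ⟨g, hg, hg1⟩ := exists_ne R hf
  have h1 : cj g (X a) = X a := cj_eq_of_comm fun z hz => comm_X' R hs hf ha hfa hne hg hz
  obtain ⟨J', h2, h3, h4⟩ := G.grow hx (g := g) (J₀ := X a) (by rw [h1]; exact haJ)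
  refine ⟨J', h2, h3, fun q hq => ?_⟩
  obtain ⟨v, hv, rfl⟩ := (hs.a2 hf hb hfb).comm_surj R hg hg1 hq
  have hxv : x v ∈ X a := (hab _).1 (by rwa [sq_apply hx])
  have hvJ : v ∈ J := by
    have := G.2 _ (haJ hxv)
    rwa [sq_apply hx] at this
  rw [commutatorElement_def]
  refine mul_mem (h4 (conj_mem_cj.2 ?_)) (inv_mem (h3 hvJ))
  exact ⟨x v, hxv, sq_apply hx v⟩

end Cfsg.Agent.H808.Gs
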