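import Cfsg.Agent.H915.Gs.Base

/-!
# E6, bad graph case of S4327: the abstract part (helper808)

* `grow₁` : one more conjugate;
* `start` : `N` a group commuting with `a N`: `a` and five conjugates.
-/

set_option autoImplicit false

namespace Cfsg.Agent.H808.Gs

open Subgroup Cfsg.Agent.H915.Gs
open scoped commutatorElement

variable {Γ : Type*} [Group Γ] {a : MulAut Γ} {s : ℕ} {J J' : Subgroup Γ}

/-- one more conjugate of `a` -/
theorem grow₁ (h : Reach₁ a s J) {J₀ : Subgroup Γ} {g : Γ} (hJ : cj g J₀ ≤ J) :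
    Reach₁ a (s + 1) (J ⊔ cj g (im a J₀)) := by
  obtain ⟨f, hf⟩ := h
  refine ⟨Fin.cons g f, ?_⟩
  have h0 : zpowers a ⊔ Gn a f ≤ zpowers a ⊔ Gn a (Fin.cons g f : Fin (s + 1) → Γ) := by
    refine sup_le_sup_left ?_ _
    unfold Gn
    rw [closure_le]
    rintro _ ⟨i, rfl⟩
    exact Subgroup.subset_closure ⟨i.succ, by simp⟩
  have hy : MulAut.conj g * a * (MulAut.conj g)⁻¹ ∈ zpowers a ⊔ Gn a (Fin.cons g f : Fin (s + 1) → Γ) := by
    have := mem_Gn a (Fin.cons g f : Fin (s + 1) → Γ) 0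
    exact mem_sup_right (by simpa using this)
  rw [Subgroup.map_sup]
  refine sup_le (hf.trans h0) ?_
  rintro _ ⟨_, ⟨_, ⟨j, hj, rfl⟩, rfl⟩, rfl⟩
  have h1 : MulAut.conj (g * j * g⁻¹) ∈ zpowers a ⊔ Gn a (Fin.cons g f : Fin (s + 1) → Γ) :=
    h0 (hf ⟨_, hJ ⟨j, hj, rfl⟩, rfl⟩)
  have h2 := mul_mem (mul_mem hy h1) (inv_mem hy)
  have e : MulAut.conj g * a * (MulAut.conj g)⁻¹ * MulAut.conj (g * j * g⁻¹) *
      (MulAut.conj g * a * (MulAut.conj g)⁻¹)⁻¹ = MulAut.conj (g * a j * g⁻¹) := by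
    rw [map_mul, map_mul, map_mul MulAut.conj (g * a j), map_mul, ← conj_apply_mul, map_inv]
    group
  rw [e] at h2
  exact h2

/-- **The start**: `a` and five conjugates. -/
theorem start {N : Subgroup Γ} (hcom : ∀ u ∈ N, ∀ v ∈ N, u * a v = a v * u) {h k g₁ g₂ : Γ}
    (hh : h ∈ N) (hk : k ∈ N) (h1 : g₁ ∈ N) (h2 : g₂ ∈ N)
    (hJ : ∀ D : Subgroup Γ, ⁅h⁻¹, k⁻¹⁆ ∈ D → (∀ g, g = h ∨ g = k ∨ g = g₁ ∨ g = g₂ → ∀ y ∈ D, g * y * g⁻¹ ∈ D) →
      J ≤ D) : Reach₁ a 5 J := by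
  refine ⟨![h, k, h * k, g₁, g₂], ?_⟩
  set H : Subgroup (MulAut Γ) := zpowers a ⊔ Gn a ![h, k, h * k, g₁, g₂] with hH
  have haH : a ∈ H := mem_sup_left (mem_zpowers a)
  have hgH : ∀ i : Fin 5, MulAut.conj (![h, k, h * k, g₁, g₂] i) * a * (MulAut.conj (![h, k, h * k, g₁, g₂] i))⁻¹ ∈ H :=
    fun i => mem_sup_right (mem_Gn a _ i)
  have hc : ∀ i : Fin 5, MulAut.conj (![h, k, h * k, g₁, g₂] i * (a (![h, k, h * k, g₁, g₂] i))⁻¹) ∈ H := by
    intro i
    have h3 := mul_mem (hgH i) (inv_mem haH)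
    have e : MulAut.conj (![h, k, h * k, g₁, g₂] i) * a * (MulAut.conj (![h, k, h * k, g₁, g₂] i))⁻¹ * a⁻¹ =
        MulAut.conj (![h, k, h * k, g₁, g₂] i * (a (![h, k, h * k, g₁, g₂] i))⁻¹) := by
      rw [map_mul, map_inv, ← conj_apply_mul]
      group
    rwa [e] at h3
  let D : Subgroup Γ := H.comap MulAut.conj ⊓ N
  have hD : J ≤ D := by
    refine hJ D ?_ ?_
    · have e0 : a * MulAut.conj ⁅h⁻¹, k⁻¹⁆ * a⁻¹ ∈ H := by
        rw [conj_apply_mul]
        have h3 := mul_mem (mul_mem (hc 0) (hc 1)) (inv_mem (hc 2))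
        rw [← map_mul MulAut.conj, ← map_inv MulAut.conj, ← map_mul MulAut.conj] at h3
        have e : h * (a h)⁻¹ * (k * (a k)⁻¹) * (h * k * (a (h * k))⁻¹)⁻¹ = a ⁅h⁻¹, k⁻¹⁆ := by
          have c1 : (a h)⁻¹ * k = k * (a h)⁻¹ := by
            have := hcom k hk h⁻¹ (inv_mem hh)
            rw [map_inv] at this
            exact this.symm
          have c2 : ∀ v ∈ N, (h * k) * a v = a v * (h * k) := fun v hv => hcom _ (mul_mem hh hk) v hv
          calc h * (a h)⁻¹ * (k * (a k)⁻¹) * (h * k * (a (h * k))⁻¹)⁻¹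
              = h * ((a h)⁻¹ * k) * (a k)⁻¹ * (a (h * k)) * (h * k)⁻¹ := by group
            _ = (h * k) * ((a h)⁻¹ * (a k)⁻¹ * a (h * k)) * (h * k)⁻¹ := by rw [c1]; group
            _ = (h * k) * a (h⁻¹ * k⁻¹ * (h * k)) * (h * k)⁻¹ := by
                rw [map_mul a (h⁻¹ * k⁻¹), map_mul a h⁻¹, map_inv, map_inv]
            _ = a (h⁻¹ * k⁻¹ * (h * k)) := by
                rw [c2 _ (mul_mem (mul_mem (inv_mem hh) (inv_mem hk)) (mul_mem hh hk)), mul_inv_cancel_right]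
            _ = a ⁅h⁻¹, k⁻¹⁆ := by
                rw [commutatorElement_def]
                congr 1
                group
        have e' : (![h, k, h * k, g₁, g₂] 0 * (a (![h, k, h * k, g₁, g₂] 0))⁻¹ *
            (![h, k, h * k, g₁, g₂] 1 * (a (![h, k, h * k, g₁, g₂] 1))⁻¹) *
            (![h, k, h * k, g₁, g₂] 2 * (a (![h, k, h * k, g₁, g₂] 2))⁻¹)⁻¹) =
            h * (a h)⁻¹ * (k * (a k)⁻¹) * (h * k * (a (h * k))⁻¹)⁻¹ := rfl
        rw [e', e] at h3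
        exact h3
      refine ⟨?_, ?_⟩
      · show MulAut.conj ⁅h⁻¹, k⁻¹⁆ ∈ H
        have h3 := mul_mem (mul_mem (inv_mem haH) e0) haH
        have e : a⁻¹ * (a * MulAut.conj ⁅h⁻¹, k⁻¹⁆ * a⁻¹) * a = MulAut.conj ⁅h⁻¹, k⁻¹⁆ := by group
        rwa [e] at h3
      · rw [commutatorElement_def]
        exact N.mul_mem (N.mul_mem (N.mul_mem (N.inv_mem hh) (N.inv_mem hk)) (N.inv_mem (N.inv_mem hh)))
          (N.inv_mem (N.inv_mem hk))
    · intro g hg y hy
      have hgN : g ∈ N := by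
        rcases hg with rfl | rfl | rfl | rfl
        · exact hh
        · exact hk
        · exact h1
        · exact h2
      have hcg : MulAut.conj (g * (a g)⁻¹) ∈ H := by
        rcases hg with rfl | rfl | rfl | rfl
        · exact hc 0
        · exact hc 1
        · exact hc 3
        · exact hc 4
      refine ⟨?_, N.mul_mem (N.mul_mem hgN hy.2) (N.inv_mem hgN)⟩
      show MulAut.conj (g * y * g⁻¹) ∈ H
      have hyH : MulAut.conj y ∈ H := hy.1
      have h3 := mul_mem (mul_mem hcg hyH) (inv_mem hcg)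
      rw [← map_mul MulAut.conj, ← map_inv MulAut.conj, ← map_mul MulAut.conj] at h3
      have c1 : (a g)⁻¹ * y * a g = y := by
        have := hcom y hy.2 g hgN
        rw [mul_assoc, this, inv_mul_cancel_left]
      have e : g * (a g)⁻¹ * y * (g * (a g)⁻¹)⁻¹ = g * y * g⁻¹ := by
        calc g * (a g)⁻¹ * y * (g * (a g)⁻¹)⁻¹ = g * ((a g)⁻¹ * y * a g) * g⁻¹ := by group
          _ = g * y * g⁻¹ := by rw [c1]
      rwa [e] at h3
  rintro _ ⟨y, hy, rfl⟩
  exact (hD hy).1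

end Cfsg.Agent.H808.Gs
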