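import Cfsg.Agent.H441.GS.Six
import Cfsg.Agent.H808.Gs.Main

/-!
# S4327: the input `Bad` of the row `E₆` (helper808)
-/

set_option autoImplicit false

namespace Cfsg.Agent.H808.Gs

open Cfsg.Agent.H441.GS Cfsg.Agent.Nodes.KindE

theorem bad (K : Type) [Field K] [Fintype K] : Bad K := by
  intro p _ _ W _ _ cs _ α β y k b w σ hα e hk hb D _ hmax hstep hσ hJ
  refine reach_of_form' cs isType6 hα e hk hb D hmax hstep hσ fun i => ?_
  rw [hJ i]
  simp only [Set.mem_insert_iff, Set.mem_singleton_iff]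

end Cfsg.Agent.H808.Gs
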