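import Cfsg.Agent.H808.Gs.Root

/-!
# E6: the chain (S4327, bad graph case), helper808

* `AE6` : the Cartan matrix; `rho6` : the action of `x` on the roots;
* `e6_reach` : `x` and eight conjugates generate everything;
* `wE6`, `wd_E6`, `WD.unique` : the element `w`.
-/

set_option autoImplicit false
set_option linter.unusedSectionVars false

namespace Cfsg.Agent.H808.Gs

open CoxeterSystem Cfsg.Agent.ChevalleyStructure.CoxeterGeom Cfsg.Agent.Tits.Roots Cfsg.Agent.Tits.Core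
  Cfsg.Agent.Tits.Exchange Cfsg.Agent.Nodes.Reps Cfsg.Agent.Nodes.BNOf Cfsg.Agent.Nodes.StabComb
  Cfsg.Agent.Nodes.Bruhat Cfsg.Agent.Nodes.OppDec Cfsg.Agent.Nodes.LeviDec Cfsg.Agent.Nodes.NormalForm
  Cfsg.Agent.Nodes.Coroot Cfsg.Agent.Nodes.PosPair
open Cfsg.Agent.KFacts.RgdOpp Cfsg.Agent.KFacts.RgdAut Cfsg.Agent.KFacts.RgdDiag Cfsg.Agent.KFacts.RgdRigid
  Cfsg.Agent.KFacts.RgdVJ Cfsg.Agent.KFacts.RgdSL Cfsg.Agent.H441.GS
open Cfsg.Agent.H915.Gs (Reach Reach₁ im)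
open scoped commutatorElement

section Word

variable {I W : Type*} [Fintype I] [DecidableEq I] [Group W] {M : CoxeterMatrix I}
  {cs : CoxeterSystem M W} {A : I → I → ℤ} {h : IsCartan M A}

/-- the action of a word -/
def actW (A : I → I → ℤ) (ω : List I) (v : I → ℤ) : I → ℤ := ω.foldr (fun i v => v - pairing A i v • sr i) v

theorem rep_word (ω : List I) (v : I → ℤ) : rep cs h (cs.wordProd ω) v = actW A ω v := by
  induction ω with
  | nil => rw [wordProd_nil, map_one, Module.End.one_apply]; rfl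
  | cons i ω ih => rw [wordProd_cons, rep_mul_apply, ih, rep_simple_eq]; rfl

theorem isRoot_of_word (ω : List I) (i : I) {v : I → ℤ} (hv : actW A ω (sr i) = v) : IsRoot cs h v :=
  ⟨cs.wordProd ω, i, by rw [rep_word, hv]⟩

end Word

/-- the Cartan matrix of `E₆` -/
def AE6 : Fin 6 → Fin 6 → ℤ :=
  ![![2, 0, -1, 0, 0, 0], ![0, 2, 0, -1, 0, 0], ![-1, 0, 2, -1, 0, 0], ![0, -1, -1, 2, -1, 0],
    ![0, 0, 0, -1, 2, -1], ![0, 0, 0, 0, -1, 2]]

/-- the action of `x` on the roots -/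
def rho6 (v : Fin 6 → ℤ) : Fin 6 → ℤ :=
  ![-v 0, v 1 - v 0 - v 5, v 2 - 2 * v 0 - v 5, v 3 - 2 * v 0 - 2 * v 5, v 4 - v 0 - 2 * v 5, -v 5]

section Chain

variable {W Y : Type*} [Group W] [Group Y] {M : CoxeterMatrix (Fin 6)}
  {cs : CoxeterSystem M W} {h : IsCartan M AE6} {p : ℕ} {T : Subgroup Y} {n : Fin 6 → Y}
  {X : (Fin 6 → ℤ) → Subgroup Y} {J J' : Subgroup Y} {x : MulAut Y}

/-- `v` is a root and `X v ≤ J` -/
def In (cs : CoxeterSystem M W) (h : IsCartan M AE6) (X : (Fin 6 → ℤ) → Subgroup Y) (J : Subgroup Y)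
    (v : Fin 6 → ℤ) : Prop := IsRoot cs h v ∧ X v ≤ J

/-- `x` permutes the root groups by `rho6` -/
def Mp (cs : CoxeterSystem M W) (h : IsCartan M AE6) (X : (Fin 6 → ℤ) → Subgroup Y) (x : MulAut Y) : Prop :=
  ∀ r, IsRoot cs h r → IsRoot cs h (rho6 r) ∧ ∀ y, x y ∈ X (rho6 r) ↔ y ∈ X r

theorem In.mono {v : Fin 6 → ℤ} (hv : In cs h X J v) (hJ : J ≤ J') : In cs h X J' v := ⟨hv.1, hv.2.trans hJ⟩

theorem In.add (R : RGD cs h p T n X) [Finite W] (hs : SL cs h) {a b c : Fin 6 → ℤ} (ha : In cs h X J a)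
    (hb : In cs h X J b) (hc : bil AE6 a b = -1) (e : a + b = c) : In cs h X J c := by
  have h1 : cpr cs h a b = -1 := by rw [cpr_eq_bil hs a hb.1, hc]
  rw [← e]
  exact ⟨isRoot_add ha.1 hb.1 h1, X_add_le R hs ha.1 hb.1 h1 ha.2 hb.2⟩

theorem In.rho (hm : Mp cs h X x) {s : ℕ} (G : Good x s J) {a c : Fin 6 → ℤ} (ha : In cs h X J a)
    (e : rho6 a = c) : In cs h X J c := by
  obtain ⟨h1, h2⟩ := hm a ha.1
  rw [← e]
  refine ⟨h1, fun y hy => ?_⟩
  have h3 : x⁻¹ y ∈ X a := (h2 _).1 (by rwa [MulAut.apply_inv_self])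
  have h4 := G.2 _ (ha.2 h3)
  rwa [MulAut.apply_inv_self] at h4

theorem Good.step' {s : ℕ} (G : Good x s J) (R : RGD cs h p T n X) [Finite W] (hs : SL cs h) (hx : x * x = 1)
    (hm : Mp cs h X x) {a f c : Fin 6 → ℤ} (ha : In cs h X J a) (hf : IsRoot cs h f) (hfa : 0 ≤ bil AE6 f a)
    (hne : f ≠ a) (hfb : bil AE6 f (rho6 a) = -1) (e : f + rho6 a = c) :
    ∃ J', Good x (s + 1) J' ∧ J ≤ J' ∧ In cs h X J' c := by
  obtain ⟨h1, h2⟩ := hm a ha.1
  have h3 : cpr cs h f (rho6 a) = -1 := by rw [cpr_eq_bil hs f h1, hfb]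
  obtain ⟨J', h4, h5, h6⟩ := G.step R hs hx ha.1 h1 hf h2 ha.2 (by rwa [cpr_eq_bil hs f ha.1]) hne h3
  exact ⟨J', h4, h5, by rw [← e]; exact isRoot_add hf h1 h3, by rwa [← e]⟩

set_option maxRecDepth 4000 in
/-- **The chain.** -/
theorem e6_reach (R : RGD cs h p T n X) [Finite W] (hs : SL cs h) (hG1 : RGD.Sup X {r | IsRoot cs h r} = ⊤)
    (hx : x * x = 1) (hm : Mp cs h X x) {g₂ : Y} (hg₂ : g₂ ∈ X (sr 0) ⊔ X (-sr 0))
    (hgen : ∀ D : Subgroup Y, (∀ y ∈ D, g₂ * y * g₂⁻¹ ∈ D) → ∀ u ∈ X ![1, 0, 1, 1, 1, 1], u ≠ 1 → u ∈ D →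
      X ![1, 0, 1, 1, 1, 1] ≤ D) : Reach x 9 ⊤ := by
  have q1 : IsRoot cs h ![1, 0, 0, 0, 0, 0] := isRoot_of_word [] 0 (by decide +kernel)
  have q2 : IsRoot cs h ![0, 0, 1, 1, 1, 1] := isRoot_of_word [2, 3, 4] 5 (by decide +kernel)
  have e12 : (![1, 0, 0, 0, 0, 0] : Fin 6 → ℤ) + ![0, 0, 1, 1, 1, 1] = ![1, 0, 1, 1, 1, 1] := by decide +kernel
  have e0 : (sr 0 : Fin 6 → ℤ) = ![1, 0, 0, 0, 0, 0] := by decide +kernel
  have n1 : -(![1, 0, 0, 0, 0, 0] : Fin 6 → ℤ) = ![-1, 0, 0, 0, 0, 0] := by decide +kernel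
  have n2 : -(![0, 0, 1, 1, 1, 1] : Fin 6 → ℤ) = ![0, 0, -1, -1, -1, -1] := by decide +kernel
  rw [e0] at hg₂
  obtain ⟨S, hS⟩ : ∃ S : Set (Fin 6 → ℤ), S = {v | v = ![1, 0, 0, 0, 0, 0] ∨ v = ![-1, 0, 0, 0, 0, 0] ∨
    v = ![0, 0, 1, 1, 1, 1] ∨ v = ![0, 0, -1, -1, -1, -1]} := ⟨_, rfl⟩
  have hSr : ∀ r ∈ S, IsRoot cs h r := by
    rw [hS]
    rintro r (rfl | rfl | rfl | rfl)
    · exact q1
    · rw [← n1]; exact q1.neg
    · exact q2
    · rw [← n2]; exact q2.neg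
  have hcom := com_of_orth R hs (x := x) (ρ := rho6) hSr (fun r hr => ⟨(hm r (hSr r hr)).1,
    fun y hy => ((hm r (hSr r hr)).2 y).2 hy⟩) (by
      intro a ha b hb
      rw [cpr_eq_bil hs a (hm b (hSr b hb)).1]
      rw [hS] at ha hb
      rcases ha with rfl | rfl | rfl | rfl <;> rcases hb with rfl | rfl | rfl | rfl <;> decide +kernel)
  have i1 : X ![1, 0, 0, 0, 0, 0] ≤ RGD.Sup X S := RGD.le_Sup (hS ▸ Or.inl rfl)
  have i2 : X (-![1, 0, 0, 0, 0, 0]) ≤ RGD.Sup X S := RGD.le_Sup (by rw [n1, hS]; exact Or.inr (Or.inl rfl))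
  have i3 : X ![0, 0, 1, 1, 1, 1] ≤ RGD.Sup X S := RGD.le_Sup (by rw [hS]; exact Or.inr (Or.inr (Or.inl rfl)))
  have i4 : X (-![0, 0, 1, 1, 1, 1]) ≤ RGD.Sup X S :=
    RGD.le_Sup (by rw [n2, hS]; exact Or.inr (Or.inr (Or.inr rfl)))
  obtain ⟨J₀, hJ₀, b1, b2, b3, b4⟩ := start_six R hs q1 q2 (by rw [cpr_eq_bil hs _ q2]; decide +kernel) i1 i2 i3 i4
    hcom (sup_le i1 i2 hg₂) (by rw [e12]; exact hgen)
  obtain ⟨J0, hJ0⟩ : ∃ J, J = J₀ ⊔ im x J₀ := ⟨_, rfl⟩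
  have G0 : Good x 5 J0 := hJ0 ▸ Good.of hx hJ₀
  have l0 : J₀ ≤ J0 := hJ0 ▸ le_sup_left
  have a1 : In cs h X J0 ![1, 0, 0, 0, 0, 0] := ⟨q1, b1.trans l0⟩
  have a2 : In cs h X J0 ![-1, 0, 0, 0, 0, 0] := by rw [← n1]; exact ⟨q1.neg, b2.trans l0⟩
  have a3 : In cs h X J0 ![0, 0, 1, 1, 1, 1] := ⟨q2, b3.trans l0⟩
  have a4 : In cs h X J0 ![0, 0, -1, -1, -1, -1] := by rw [← n2]; exact ⟨q2.neg, b4.trans l0⟩
  have v4 : In cs h X J0 ![-1, 0, -1, -1, -1, -1] := In.add R hs a2 a4 (by decide +kernel) (by decide +kernel)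
  have v5 : In cs h X J0 ![1, 1, 2, 2, 1, 0] := In.rho hm G0 a2 (by decide +kernel)
  have v6 : In cs h X J0 ![0, 1, 0, 1, 1, 1] := In.rho hm G0 a4 (by decide +kernel)
  have v7 : In cs h X J0 ![1, 2, 2, 3, 2, 1] := In.add R hs v5 v6 (by decide +kernel) (by decide +kernel)
  have v9 : In cs h X J0 ![0, -1, 0, -1, -1, -1] := In.rho hm G0 a3 (by decide +kernel)
  have v10 : In cs h X J0 ![-1, -1, -2, -2, -1, 0] := In.rho hm G0 a1 (by decide +kernel)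
  have f1 : IsRoot cs h ![-1, -1, -2, -2, -2, -1] := isRoot_of_word (cs := cs) (h := h) [2, 0, 4, 3, 1, 2, 3, 4, 5] 5 (by decide +kernel)
  obtain ⟨J1, G1, L01, k1⟩ := G0.step' R hs hx hm v9 f1 (by decide +kernel) (by decide +kernel)
    (by decide +kernel) (c := ![-1, -1, -1, -1, -1, 0]) (by decide +kernel)
  have v12 : In cs h X J1 ![0, -1, -1, -1, -1, 0] := In.add R hs (a1.mono L01) k1 (by decide +kernel) (by decide +kernel)
  have v13 : In cs h X J1 ![0, 1, 1, 2, 1, 1] := In.add R hs (v7.mono L01) k1 (by decide +kernel) (by decide +kernel)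
  have v14 : In cs h X J1 ![0, 1, 0, 1, 0, 0] := In.add R hs (a4.mono L01) v13 (by decide +kernel) (by decide +kernel)
  have v15 : In cs h X J1 ![1, 0, 1, 1, 0, 0] := In.rho hm G1 k1 (by decide +kernel)
  have v16 : In cs h X J1 ![0, 0, 1, 1, 0, 0] := In.add R hs (a2.mono L01) v15 (by decide +kernel) (by decide +kernel)
  have f2 : IsRoot cs h ![0, 1, 1, 2, 2, 1] := isRoot_of_word (cs := cs) (h := h) [4, 3, 1, 2, 3, 4] 5 (by decide +kernel)
  obtain ⟨J2, G2, L12, k2⟩ := G1.step' R hs hx hm (a3.mono L01) f2 (by decide +kernel) (by decide +kernel)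
    (by decide +kernel) (c := ![0, 0, 1, 1, 1, 0]) (by decide +kernel)
  have L02 := L01.trans L12
  have v18 : In cs h X J2 ![0, 1, 1, 2, 1, 0] := In.add R hs (v14.mono L12) k2 (by decide +kernel) (by decide +kernel)
  have v19 : In cs h X J2 ![0, 0, 0, 1, 0, 0] := In.add R hs (v12.mono L12) v18 (by decide +kernel) (by decide +kernel)
  have v20 : In cs h X J2 ![0, 1, 1, 2, 2, 1] := In.add R hs (v6.mono L02) k2 (by decide +kernel) (by decide +kernel)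
  have v21 : In cs h X J2 ![0, 1, 0, 1, 1, 0] := In.add R hs (a4.mono L02) v20 (by decide +kernel) (by decide +kernel)
  have v22 : In cs h X J2 ![0, -1, 0, 0, 0, 0] := In.add R hs (v12.mono L12) k2 (by decide +kernel) (by decide +kernel)
  have v23 : In cs h X J2 ![-1, 0, -1, 0, 0, 0] := In.add R hs (v10.mono L02) v18 (by decide +kernel) (by decide +kernel)
  have v24 : In cs h X J2 ![0, 0, -1, 0, 0, 0] := In.add R hs (a1.mono L02) v23 (by decide +kernel) (by decide +kernel)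
  have v25 : In cs h X J2 ![0, 0, 0, 0, 0, -1] := In.add R hs (a4.mono L02) k2 (by decide +kernel) (by decide +kernel)
  have f3 : IsRoot cs h ![1, 0, 1, 0, 0, 0] := isRoot_of_word (cs := cs) (h := h) [0] 2 (by decide +kernel)
  obtain ⟨J3, G3, L23, k3⟩ := G2.step' R hs hx hm (a1.mono L02) f3 (by decide +kernel) (by decide +kernel)
    (by decide +kernel) (c := ![0, -1, -1, -2, -1, 0]) (by decide +kernel)
  have L03 := L02.trans L23
  have L13 := L12.trans L23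
  have v27 : In cs h X J3 ![1, 1, 1, 1, 1, 1] := In.add R hs (v7.mono L03) k3 (by decide +kernel) (by decide +kernel)
  have v28 : In cs h X J3 ![0, 1, 0, 0, 0, 0] := In.add R hs (v4.mono L03) v27 (by decide +kernel) (by decide +kernel)
  have v29 : In cs h X J3 ![1, 0, 1, 0, 0, 0] := In.add R hs (v5.mono L03) k3 (by decide +kernel) (by decide +kernel)
  have v30 : In cs h X J3 ![0, 0, 1, 0, 0, 0] := In.add R hs (a2.mono L03) v29 (by decide +kernel) (by decide +kernel)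
  have v31 : In cs h X J3 ![0, 0, -1, -1, 0, 0] := In.add R hs (v21.mono L23) k3 (by decide +kernel) (by decide +kernel)
  have v32 : In cs h X J3 ![0, 0, 0, 0, 1, 0] := In.add R hs (k2.mono L23) v31 (by decide +kernel) (by decide +kernel)
  have v33 : In cs h X J3 ![0, 0, 0, 0, 0, 1] := In.add R hs (v13.mono L13) k3 (by decide +kernel) (by decide +kernel)
  have v34 : In cs h X J3 ![-1, -1, -1, -2, -1, 0] := In.add R hs (a2.mono L03) k3 (by decide +kernel) (by decide +kernel)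
  have v35 : In cs h X J3 ![1, 1, 1, 1, 1, 0] := In.add R hs (v5.mono L03) v31 (by decide +kernel) (by decide +kernel)
  have v36 : In cs h X J3 ![0, 0, 0, -1, 0, 0] := In.add R hs v34 v35 (by decide +kernel) (by decide +kernel)
  have v37 : In cs h X J3 ![0, 0, -1, -1, -1, 0] := In.add R hs (v14.mono L13) k3 (by decide +kernel) (by decide +kernel)
  have v38 : In cs h X J3 ![0, 0, 0, 0, -1, 0] := In.add R hs (v16.mono L13) v37 (by decide +kernel) (by decide +kernel)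
  have hsi : ∀ i : Fin 6, X (sr i) ≤ J3 ∧ X (-sr i) ≤ J3 := by
    intro i
    have s0 : (sr 0 : Fin 6 → ℤ) = ![1, 0, 0, 0, 0, 0] := by decide +kernel
    have s1 : (sr 1 : Fin 6 → ℤ) = ![0, 1, 0, 0, 0, 0] := by decide +kernel
    have s2 : (sr 2 : Fin 6 → ℤ) = ![0, 0, 1, 0, 0, 0] := by decide +kernel
    have s3 : (sr 3 : Fin 6 → ℤ) = ![0, 0, 0, 1, 0, 0] := by decide +kernel
    have s4 : (sr 4 : Fin 6 → ℤ) = ![0, 0, 0, 0, 1, 0] := by decide +kernel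
    have s5 : (sr 5 : Fin 6 → ℤ) = ![0, 0, 0, 0, 0, 1] := by decide +kernel
    have t0 : -(sr 0 : Fin 6 → ℤ) = ![-1, 0, 0, 0, 0, 0] := by decide +kernel
    have t1 : -(sr 1 : Fin 6 → ℤ) = ![0, -1, 0, 0, 0, 0] := by decide +kernel
    have t2 : -(sr 2 : Fin 6 → ℤ) = ![0, 0, -1, 0, 0, 0] := by decide +kernel
    have t3 : -(sr 3 : Fin 6 → ℤ) = ![0, 0, 0, -1, 0, 0] := by decide +kernel
    have t4 : -(sr 4 : Fin 6 → ℤ) = ![0, 0, 0, 0, -1, 0] := by decide +kernel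
    have t5 : -(sr 5 : Fin 6 → ℤ) = ![0, 0, 0, 0, 0, -1] := by decide +kernel
    fin_cases i
    · exact ⟨s0 ▸ (a1.mono L03).2, t0 ▸ (a2.mono L03).2⟩
    · exact ⟨s1 ▸ v28.2, t1 ▸ (v22.mono L23).2⟩
    · exact ⟨s2 ▸ v30.2, t2 ▸ (v24.mono L23).2⟩
    · exact ⟨s3 ▸ (v19.mono L23).2, t3 ▸ v36.2⟩
    · exact ⟨s4 ▸ v32.2, t4 ▸ v38.2⟩
    · exact ⟨s5 ▸ v33.2, t5 ▸ (v25.mono L23).2⟩
  have hJ3 : J3 = ⊤ := by
    rw [← top_le_iff, ← hG1]
    exact RGD.Sup_le fun r hr u hu => X_le_of_simple R hsi hr hu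
  rw [← hJ3]
  exact G3.1.reach

end Chain

/-! ### the element `w` -/

section Elt

variable {I W : Type*} [Fintype I] [DecidableEq I] [Group W] {M : CoxeterMatrix I}
  {cs : CoxeterSystem M W} {A : I → I → ℤ} {h : IsCartan M A}

theorem WD.unique {J : Set I} {w w' : W} {σ : Equiv.Perm I} (H : WD cs h J w σ) (H' : WD cs h J w' σ) : w = w' := by
  have h1 : w⁻¹ * w' = 1 := by
    refine eq_one_of_nonneg cs h _ fun i => ?_
    change 0 ≤ rep cs h (w⁻¹ * w') (sr i)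
    obtain ⟨j, rfl⟩ : ∃ j, σ j = i := ⟨σ.symm i, by simp⟩
    rw [rep_mul_apply]
    by_cases hj : j ∈ J
    · rw [H'.fix j hj, ← H.fix j hj, rep_inv_apply]
      exact sr_nonneg _
    · have h2 : sr (σ j) ∈ NotJ cs h J := sr_mem_NotJ fun h3 => hj ((H.stab j).1 h3)
      exact (H.inv.notNJ (H'.notJ h2)).2.1
  exact inv_mul_eq_one.1 h1

end Elt

section EltE6

variable {W : Type*} [Group W] {M : CoxeterMatrix (Fin 6)} {cs : CoxeterSystem M W} {h : IsCartan M AE6}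

/-- the flip of the diagram -/
def flip6 : Equiv.Perm (Fin 6) := Equiv.swap 0 5 * Equiv.swap 2 4

/-- the nodes `1`, `2`, `3`, `4` -/
def J6 : Set (Fin 6) := {i | i = 1 ∨ i = 2 ∨ i = 3 ∨ i = 4}

/-- the word of `w` -/
def om6 : List (Fin 6) := [0, 2, 3, 4, 5, 1, 3, 4, 2, 3, 0, 2, 1, 3, 4, 5, 0, 2, 3, 4, 1, 3, 2, 0]

theorem not_J6 {i : Fin 6} (hi : i ∉ J6) : i = 0 ∨ i = 5 := by
  have key : ∀ i : Fin 6, ¬ (i = 1 ∨ i = 2 ∨ i = 3 ∨ i = 4) → i = 0 ∨ i = 5 := by decide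
  exact key i hi

theorem wd_E6 : WD cs h J6 (cs.wordProd om6) flip6 where
  stab i := by
    have key : ∀ i : Fin 6, (flip6 i = 1 ∨ flip6 i = 2 ∨ flip6 i = 3 ∨ flip6 i = 4) ↔
      (i = 1 ∨ i = 2 ∨ i = 3 ∨ i = 4) := by decide
    exact key i
  fix i hi := by
    rw [rep_word]
    rcases hi with rfl | rfl | rfl | rfl <;> decide +kernel
  neg i hi := by
    rw [rep_word]
    intro k
    revert k
    rcases not_J6 hi with rfl | rfl <;> decide +kernel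
  neg' i hi := by
    rw [← wordProd_reverse, rep_word]
    intro k
    revert k
    rcases not_J6 hi with rfl | rfl <;> decide +kernel

theorem rho_E6 (r : Fin 6 → ℤ) : rep cs h (cs.wordProd om6) (r ∘ flip6.symm) = rho6 r := by
  rw [rep_comp_symm, Fin.sum_univ_six]
  have e0 : actW AE6 om6 (sr (flip6 0)) = ![-1, -1, -2, -2, -1, 0] := by decide +kernel
  have e1 : actW AE6 om6 (sr (flip6 1)) = ![0, 1, 0, 0, 0, 0] := by decide +kernel
  have e2 : actW AE6 om6 (sr (flip6 2)) = ![0, 0, 1, 0, 0, 0] := by decide +kernel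
  have e3 : actW AE6 om6 (sr (flip6 3)) = ![0, 0, 0, 1, 0, 0] := by decide +kernel
  have e4 : actW AE6 om6 (sr (flip6 4)) = ![0, 0, 0, 0, 1, 0] := by decide +kernel
  have e5 : actW AE6 om6 (sr (flip6 5)) = ![0, -1, -1, -2, -2, -1] := by decide +kernel
  rw [rep_word, rep_word, rep_word, rep_word, rep_word, rep_word, e0, e1, e2, e3, e4, e5]
  funext k
  fin_cases k <;> simp [rho6] <;> ring

theorem perm_E6 {σ : Equiv.Perm (Fin 6)} (hσ : ∀ i j, AE6 (σ i) (σ j) = AE6 i j) : σ = 1 ∨ σ = flip6 := by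
  revert σ
  decide +kernel

end EltE6

end Cfsg.Agent.H808.Gs
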