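import Cfsg.Agent.H441.GS.OppGen
import Cfsg.Agent.H441.GS.Chain
import Cfsg.Agent.KFacts.RgdVJ
import Cfsg.Agent.H808.Gs.Abs

/-!
# Automorphisms fixing a Levi subgroup (S4327, E6, bad graph case), helper808

`x = conj (k b) β`, `k` over `w`, `b ∈ B`, `β` a frame automorphism with diagram part `σ`, `x ^ 2 = 1`, the length of `w`
maximal; `J` a set of nodes with `w α_{σ i} = α_i` for `i ∈ J`, `w α_{σ i} ≤ 0`, `w⁻¹ α_i ≤ 0` for `i ∉ J`.

* `fix_LJ` : `x L_J = L_J`, `x V_J = V_J⁻`;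
* `mem_T_of_LJ` : `g⁻¹ x(g) ∈ T` for `g ∈ L_J`;
* `fix_X` : `x` centralises the root groups of `J`, if every root of `J` is a sum of two;
* `map_X` : `b ∈ T` and `x X_r = X_{w (r ∘ σ⁻¹)}` for all roots `r`.
-/

set_option autoImplicit false
set_option linter.unusedSectionVars false

namespace Cfsg.Agent.H808.Gs

open CoxeterSystem Cfsg.Agent.ChevalleyStructure.CoxeterGeom Cfsg.Agent.Tits.Roots Cfsg.Agent.Tits.Core
  Cfsg.Agent.Tits.Exchange Cfsg.Agent.Nodes.Reps Cfsg.Agent.Nodes.BNOf Cfsg.Agent.Nodes.StabComb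
  Cfsg.Agent.Nodes.Bruhat Cfsg.Agent.Nodes.OppDec Cfsg.Agent.Nodes.LeviDec Cfsg.Agent.Nodes.NormalForm
  Cfsg.Agent.Nodes.Coroot Cfsg.Agent.Nodes.PosPair
open Cfsg.Agent.KFacts.RgdOpp Cfsg.Agent.KFacts.RgdAut Cfsg.Agent.KFacts.RgdDiag Cfsg.Agent.KFacts.RgdRigid
  Cfsg.Agent.KFacts.RgdVJ Cfsg.Agent.KFacts.RgdSL Cfsg.Agent.H441.GS
open scoped commutatorElement

variable {I W Y : Type*} [Fintype I] [DecidableEq I] [Group W] [Group Y] {M : CoxeterMatrix I}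
  {cs : CoxeterSystem M W} {A : I → I → ℤ} {h : IsCartan M A} {p : ℕ} {T : Subgroup Y} {n : I → Y}
  {X : (I → ℤ) → Subgroup Y}

/-! ### the Weyl group element -/

section Weyl

variable {J : Set I} {w : W} {σ : Equiv.Perm I}

theorem sr_apply_ne {i l : I} (hil : l ≠ i) : (sr i : I → ℤ) l = 0 := by rw [sr, Pi.single_eq_of_ne hil]

theorem rep_comp_symm (r : I → ℤ) : rep cs h w (r ∘ σ.symm) = ∑ i, r i • rep cs h w (sr (σ i)) := by
  rw [rep_eq_sum, ← Equiv.sum_comp σ]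
  exact Finset.sum_congr rfl fun i _ => by simp

theorem rep_eq_sum' (σ : Equiv.Perm I) (r : I → ℤ) : rep cs h w r = ∑ i, r (σ i) • rep cs h w (sr (σ i)) := by
  rw [rep_eq_sum, ← Equiv.sum_comp σ]

theorem rep_injective : Function.Injective (rep cs h w) := fun x y hxy => by
  rw [← rep_inv_apply (cs := cs) (h := h) w x, hxy, rep_inv_apply]

/-- the data on `w` -/
structure WD (cs : CoxeterSystem M W) (h : IsCartan M A) (J : Set I) (w : W) (σ : Equiv.Perm I) : Prop where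
  stab : ∀ i, σ i ∈ J ↔ i ∈ J
  fix : ∀ i ∈ J, rep cs h w (sr (σ i)) = sr i
  neg : ∀ i, i ∉ J → rep cs h w (sr (σ i)) ≤ 0
  neg' : ∀ i, i ∉ J → rep cs h w⁻¹ (sr i) ≤ 0

theorem WD.inv (H : WD cs h J w σ) : WD cs h J w⁻¹ σ⁻¹ := by
  have hs : ∀ i, σ (σ⁻¹ i) = i := fun i => σ.apply_symm_apply i
  have hst : ∀ i, σ⁻¹ i ∈ J ↔ i ∈ J := fun i => by rw [← H.stab, hs]
  refine ⟨hst, fun i hi => ?_, fun i hi => ?_, fun i hi => ?_⟩
  · have h1 := H.fix _ ((hst i).2 hi)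
    rw [hs] at h1
    rw [← h1, rep_inv_apply]
  · exact H.neg' _ fun h1 => hi ((hst i).1 h1)
  · have h1 := H.neg (σ⁻¹ i) fun h1 => hi ((hst i).1 h1)
    rwa [hs, ← inv_inv w] at h1

theorem WD.notJ (H : WD cs h J w σ) {r : I → ℤ} (hr : r ∈ NotJ cs h J) : rep cs h w r ∈ NotNJ cs h J := by
  obtain ⟨hr0, hr1, k, hk, hk0⟩ := hr
  have h3 : ∀ l, (rep cs h w r) l = ∑ i, r (σ i) * (rep cs h w (sr (σ i))) l := by
    intro l
    rw [rep_eq_sum' σ r, Finset.sum_apply]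
    rfl
  have h4 : ∀ l, l ∉ J → (rep cs h w r) l ≤ 0 := by
    intro l hl
    rw [h3 l]
    refine Finset.sum_nonpos fun i _ => ?_
    by_cases hi : i ∈ J
    · rw [H.fix i hi, sr_apply_ne (by rintro rfl; exact hl hi), mul_zero]
    · exact mul_nonpos_of_nonneg_of_nonpos (hr1 _) (H.neg i hi l)
  have h5 : ∃ l, l ∉ J ∧ (rep cs h w r) l < 0 := by
    by_contra hcon
    push Not at hcon
    have h6 : ∀ l, l ∉ J → rep cs h w r l = 0 := fun l hl => le_antisymm (h4 l hl) (hcon l hl)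
    have h7 : rep cs h w r = rep cs h w (∑ i, (rep cs h w r) i • sr (σ i)) := by
      rw [map_sum]
      conv_lhs => rw [Cfsg.Agent.KFacts.RgdPar.eq_sum_sr (rep cs h w r)]
      refine Finset.sum_congr rfl fun i _ => ?_
      rw [map_smul]
      by_cases hi : i ∈ J
      · rw [H.fix i hi]
      · rw [h6 i hi, zero_smul, zero_smul]
    have h8 := congrFun (rep_injective h7) k
    rw [Finset.sum_apply, Finset.sum_eq_zero] at h8
    · omega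
    · intro i _
      rw [Pi.smul_apply, smul_eq_mul]
      by_cases hi : i ∈ J
      · rw [sr_apply_ne (by rintro rfl; exact hk ((H.stab i).2 hi)), mul_zero]
      · rw [h6 i hi, zero_mul]
  obtain ⟨l, hl, hl0⟩ := h5
  have h6 : 0 < (-rep cs h w r) l := by rw [Pi.neg_apply]; omega
  exact ⟨(hr0.act w).neg, nonneg_of_pos_apply (hr0.act w).neg h6, l, hl, h6⟩

theorem WD.notNJ (H : WD cs h J w σ) {r : I → ℤ} (hr : r ∈ NotNJ cs h J) : rep cs h w r ∈ NotJ cs h J := by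
  have h1 := H.notJ (r := -r) hr
  rw [map_neg] at h1
  have h2 : - -rep cs h w r ∈ NotJ cs h J := h1
  rwa [neg_neg] at h2

theorem WD.rootsJ (H : WD cs h J w σ) {r : I → ℤ} (hr : r ∈ RootsJ cs h J) : rep cs h w r = r ∘ σ := by
  rw [rep_eq_sum' σ r]
  conv_rhs => rw [Cfsg.Agent.KFacts.RgdPar.eq_sum_sr (r ∘ σ)]
  refine Finset.sum_congr rfl fun i _ => ?_
  by_cases hi : i ∈ J
  · rw [H.fix i hi]
    rfl
  · rw [Function.comp_apply, hr.2 _ fun h1 => hi ((H.stab i).1 h1), zero_smul, zero_smul]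

theorem WD.rootsJ_mem (H : WD cs h J w σ) {r : I → ℤ} (hr : r ∈ RootsJ cs h J) : r ∘ σ ∈ RootsJ cs h J := by
  refine ⟨by rw [← H.rootsJ hr]; exact hr.1.act w, fun l hl => hr.2 _ fun h1 => hl ((H.stab l).1 h1)⟩

theorem WD.rep_rootsJ (H : WD cs h J w σ) {r : I → ℤ} (hr : r ∈ RootsJ cs h J) : rep cs h w r ∈ RootsJ cs h J := by
  rw [H.rootsJ hr]
  exact H.rootsJ_mem hr

theorem isRoot_comp (hM : ∀ i j, M (σ i) (σ j) = M i j) (hA : ∀ i j, A (σ i) (σ j) = A i j) {r : I → ℤ}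
    (hr : IsRoot cs h r) : IsRoot cs h (r ∘ σ.symm) := by
  obtain ⟨v, i, rfl⟩ := hr
  rw [← rep_hat hM hA, sr_comp]
  exact ⟨_, _, rfl⟩

theorem WD.notJ_comp (H : WD cs h J w σ) (hM : ∀ i j, M (σ i) (σ j) = M i j) (hA : ∀ i j, A (σ i) (σ j) = A i j)
    {r : I → ℤ} (hr : r ∈ NotJ cs h J) : r ∘ σ.symm ∈ NotJ cs h J := by
  obtain ⟨hr0, hr1, k, hk, hk0⟩ := hr
  refine ⟨isRoot_comp hM hA hr0, fun i => hr1 _, σ k, fun h1 => hk ((H.stab k).1 h1), ?_⟩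
  rwa [Function.comp_apply, Equiv.symm_apply_apply]

theorem WD.isMinL (H : WD cs h J w σ) : IsMinL cs J w := by
  rw [isMinL_iff]
  intro i hi
  have h1 : rep cs h w⁻¹ (sr i) = sr (σ i) := by rw [← H.fix i hi, rep_inv_apply]
  have h2 := (lt_iff' cs h w⁻¹ i).2 (by
    have := sr_nonneg (I := I) (σ i)
    rwa [← h1] at this)
  rwa [cs.length_inv, ← cs.length_inv (w⁻¹ * cs.simple i), mul_inv_rev, inv_inv, inv_simple] at h2

end Weyl

/-! ### stable subgroups -/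

section Fixed

variable (R : RGD cs h p T n X) [Finite W]

include R

theorem fix_Sup {β : MulAut Y} {σ : Equiv.Perm I} (D : Diag T X β σ) (hA : ∀ i j, A (σ i) (σ j) = A i j)
    {S : Set (I → ℤ)} (hS : ∀ r ∈ S, IsRoot cs h r) (h1 : ∀ r ∈ S, r ∘ σ.symm ∈ S) (h2 : ∀ r ∈ S, r ∘ σ ∈ S) :
    Fix β (RGD.Sup X S) := by
  have key : ∀ {β : MulAut Y} {σ : Equiv.Perm I}, Diag T X β σ → (∀ i j, A (σ i) (σ j) = A i j) →
      (∀ r ∈ S, r ∘ σ.symm ∈ S) → ∀ y ∈ RGD.Sup X S, β y ∈ RGD.Sup X S := by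
    intro β σ D hA h1 y hy
    have h3 : RGD.Sup X S ≤ (RGD.Sup X S).comap β.toMonoidHom := by
      refine RGD.Sup_le fun r hr z hz => ?_
      exact RGD.le_Sup (h1 r hr) ((D.root_comp R hA (hS r hr) z).2 hz)
    exact h3 hy
  have hA' : ∀ i j, A (σ⁻¹ i) (σ⁻¹ j) = A i j := by
    intro i j
    have h1 : ∀ k, σ (σ⁻¹ k) = k := fun k => σ.apply_symm_apply k
    rw [← hA, h1, h1]
  intro y
  refine ⟨fun hy => ?_, key D hA h1 y⟩
  have := key D.inv hA' h2 _ hy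
  rwa [MulAut.inv_apply_self] at this

omit R [Finite W] in
theorem fix_sup {β : MulAut Y} {H K : Subgroup Y} (hH : Fix β H) (hK : Fix β K) : Fix β (H ⊔ K) := by
  have key : ∀ {β : MulAut Y}, Fix β H → Fix β K → ∀ y ∈ H ⊔ K, β y ∈ H ⊔ K := by
    intro β hH hK y hy
    have h3 : H ⊔ K ≤ (H ⊔ K).comap β.toMonoidHom :=
      sup_le (fun z hz => Subgroup.mem_sup_left ((hH z).2 hz)) fun z hz => Subgroup.mem_sup_right ((hK z).2 hz)
    exact h3 hy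
  intro y
  refine ⟨fun hy => ?_, key hH hK y⟩
  have h1 : ∀ {L : Subgroup Y}, Fix β L → Fix β⁻¹ L := by
    intro L hL z
    have := hL (β⁻¹ z)
    rwa [MulAut.apply_inv_self, iff_comm] at this
  have := key (h1 hH) (h1 hK) _ hy
  rwa [MulAut.inv_apply_self] at this

end Fixed

/-! ### the Levi subgroup -/

section Levi

/-- the data on the automorphism -/
structure LD (R : RGD cs h p T n X) (J : Set I) (w : W) (σ : Equiv.Perm I) (β x : MulAut Y) (k b : Y) : Prop where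
  wd : WD cs h J w σ
  diag : Diag T X β σ
  cartan : ∀ i j, A (σ i) (σ j) = A i j
  rp : Rp cs R.nsys w k
  mem : b ∈ RGD.B cs h T X
  eq : x = MulAut.conj (k * b) * β
  sq : x * x = 1
  max : ∀ (z : Y) (w' : W), Cell R.nsys cs h X w' (z * (k * b) * (β z)⁻¹) → cs.length w' ≤ cs.length w

variable {R : RGD cs h p T n X} [Finite W] {J : Set I} {w : W} {σ : Equiv.Perm I} {β x : MulAut Y} {k b : Y}
  (L : LD R J w σ β x k b)

include L

omit [Finite W] in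
theorem LD.apply (y : Y) : x y = k * (b * β y * b⁻¹) * k⁻¹ := by
  rw [L.eq, MulAut.mul_apply, MulAut.conj_apply]
  group

omit [Finite W] in
theorem LD.sq_apply (y : Y) : x (x y) = y := by rw [← MulAut.mul_apply, L.sq, MulAut.one_apply]

theorem LD.matrix : ∀ i j, M (σ i) (σ j) = M i j := L.diag.matrix R

theorem LD.matrix' : ∀ i j, M (σ⁻¹ i) (σ⁻¹ j) = M i j := fun i j => by
  have h1 : ∀ k, σ (σ⁻¹ k) = k := fun k => σ.apply_symm_apply k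
  rw [← L.matrix, h1, h1]

omit [Finite W] in
theorem LD.cartan' : ∀ i j, A (σ⁻¹ i) (σ⁻¹ j) = A i j := fun i j => by
  have h1 : ∀ k, σ (σ⁻¹ k) = k := fun k => σ.apply_symm_apply k
  rw [← L.cartan, h1, h1]

theorem LD.fix_VJ : Fix β (VJ cs h X J) :=
  fix_Sup R L.diag L.cartan (fun _ hr => hr.1) (fun _ hr => L.wd.notJ_comp L.matrix L.cartan hr)
    fun _ hr => L.wd.inv.notJ_comp L.matrix' L.cartan' hr

theorem LD.rootsJ_comp {r : I → ℤ} (hr : r ∈ RootsJ cs h J) : r ∘ σ.symm ∈ RootsJ cs h J :=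
  ⟨isRoot_comp L.matrix L.cartan hr.1, fun l hl => hr.2 _ fun h1 => hl ((L.wd.inv.stab l).1 h1)⟩

theorem LD.fix_beta_LJ : Fix β (LJ cs h T X J) :=
  fix_sup L.diag.tor (fix_Sup R L.diag L.cartan (fun _ hr => hr.1) (fun _ hr => L.rootsJ_comp hr)
    fun _ hr => L.wd.rootsJ_mem hr)

theorem LD.fix_beta_PJ : Fix β (PJ cs h T X J) := fix_sup L.fix_beta_LJ L.fix_VJ

omit [Finite W] in
theorem LD.cj_VJ : cj k (VJ cs h X J) = VNJ cs h X J := by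
  refine le_antisymm (cj_Sup_le R L.rp (fun r hr => hr.1) fun r hr => L.wd.notJ hr) ?_
  rw [← cj_cj_inv k (VNJ cs h X J)]
  exact cj_mono k (cj_Sup_le R L.rp.inv (fun r hr => NotNJ.isRoot hr) fun r hr => L.wd.inv.notNJ hr)

omit [Finite W] in
theorem LD.cj_VNJ : cj k (VNJ cs h X J) = VJ cs h X J := by
  refine le_antisymm (cj_Sup_le R L.rp (fun r hr => NotNJ.isRoot hr) fun r hr => L.wd.notNJ hr) ?_
  rw [← cj_cj_inv k (VJ cs h X J)]
  exact cj_mono k (cj_Sup_le R L.rp.inv (fun r hr => hr.1) fun r hr => L.wd.inv.notJ hr)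

omit [Finite W] in
theorem LD.cj_LJ : cj k (LJ cs h T X J) = LJ cs h T X J := by
  have h1 : cj k (RGD.Sup X (RootsJ cs h J)) = RGD.Sup X (RootsJ cs h J) := by
    refine le_antisymm (cj_Sup_le R L.rp (fun r hr => hr.1) fun r hr => L.wd.rep_rootsJ hr) ?_
    conv_lhs => rw [← cj_cj_inv k (RGD.Sup X (RootsJ cs h J))]
    exact cj_mono k (cj_Sup_le R L.rp.inv (fun r hr => hr.1) fun r hr => L.wd.inv.rep_rootsJ hr)
  unfold LJ
  rw [cj_sup, cj_T R L.rp, h1]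

omit [Finite W] in
theorem LD.cj_PJ : cj k (PJ cs h T X J) = PNJ cs h T X J := by
  unfold PJ PNJ
  rw [cj_sup, L.cj_LJ, L.cj_VJ]

theorem LD.mem_VNJ_iff (y : Y) : x y ∈ VNJ cs h X J ↔ y ∈ VJ cs h X J := by
  rw [L.apply, ← L.cj_VJ, conj_mem_cj]
  exact (Subgroup.mem_normalizer_iff.1 (PJ_le_normalizer_VJ R J (B_le_PJ L.mem)) (β y)).symm.trans (L.fix_VJ y)

theorem LD.mem_VJ_iff (y : Y) : x y ∈ VJ cs h X J ↔ y ∈ VNJ cs h X J := by
  have := L.mem_VNJ_iff (x y)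
  rw [L.sq_apply] at this
  exact this.symm

theorem LD.mem_PNJ_iff (y : Y) : x y ∈ PNJ cs h T X J ↔ y ∈ PJ cs h T X J := by
  rw [L.apply, ← L.cj_PJ, conj_mem_cj]
  exact (Subgroup.mem_normalizer_iff.1 (Subgroup.le_normalizer (B_le_PJ L.mem)) (β y)).symm.trans (L.fix_beta_PJ y)

theorem LD.mem_PJ_iff (y : Y) : x y ∈ PJ cs h T X J ↔ y ∈ PNJ cs h T X J := by
  have := L.mem_PNJ_iff (x y)
  rw [L.sq_apply] at this
  exact this.symm

/-- `x L_J = L_J` -/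
theorem LD.mem_LJ_iff (y : Y) : x y ∈ LJ cs h T X J ↔ y ∈ LJ cs h T X J := by
  rw [← PJ_inf_PNJ R, Subgroup.mem_inf, Subgroup.mem_inf, L.mem_PJ_iff, L.mem_PNJ_iff, and_comm]

theorem LD.mem_B {g : Y} (hg : g ∈ LJ cs h T X J) : g⁻¹ * x g ∈ RGD.B cs h T X := by
  have h1 : g⁻¹ * x g ∈ LJ cs h T X J := mul_mem (inv_mem hg) ((L.mem_LJ_iff g).2 hg)
  obtain ⟨v, hv, hc⟩ := (mem_PJ_iff_cell R).1 (LJ_le_PJ h1)
  have h2 : Cell R.nsys cs h X w (k * b) := (cell_of_rp L.rp).mul_right L.mem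
  have h3 := Cell.mul_of_length R (L.wd.isMinL v hv) hc h2
  have h4 : g⁻¹ * x g * (k * b) = g⁻¹ * (k * b) * (β g⁻¹)⁻¹ := by
    rw [L.apply, map_inv, inv_inv]
    group
  rw [h4] at h3
  have h5 := L.max _ _ h3
  rw [L.wd.isMinL v hv] at h5
  have h6 : v = 1 := cs.length_eq_zero_iff.1 (by omega)
  subst h6
  exact hc.mem_of_one

/-- `g⁻¹ x(g) ∈ T` for `g ∈ L_J` -/
theorem LD.mem_T {g : Y} (hg : g ∈ LJ cs h T X J) : g⁻¹ * x g ∈ T := by
  have h1 : g⁻¹ * x g ∈ LJ cs h T X J := mul_mem (inv_mem hg) ((L.mem_LJ_iff g).2 hg)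
  obtain ⟨t, ht, v, hv, e⟩ := mem_TV R (J := J) (c := g⁻¹ * x g) (by
    intro m hm
    obtain ⟨l, hl, v, hv, e⟩ := (mem_PJ R).1 (inv_mem hm)
    have hm' : m = v⁻¹ * l⁻¹ := by rw [← mul_inv_rev, ← e, inv_inv]
    have h2 : l⁻¹ * (g⁻¹ * x g) * l ∈ RGD.B cs h T X := by
      have h3 := mul_mem (L.mem_B (mul_mem hg hl)) (inv_mem (L.mem_B hl))
      have e3 : (g * l)⁻¹ * x (g * l) * (l⁻¹ * x l)⁻¹ = l⁻¹ * (g⁻¹ * x g) * l := by
        rw [map_mul]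
        group
      rwa [e3] at h3
    have e4 : m * (g⁻¹ * x g) * m⁻¹ = v⁻¹ * (l⁻¹ * (g⁻¹ * x g) * l) * v := by
      rw [hm']
      group
    rw [e4]
    exact mul_mem (mul_mem (inv_mem (VJ_le_B J hv)) h2) (VJ_le_B J hv))
  have h3 : v ∈ LJ cs h T X J := by
    have : v = t⁻¹ * (g⁻¹ * x g) := by rw [e]; group
    rw [this]
    exact mul_mem (inv_mem (T_le_LJ ht)) h1
  rw [e, eq_one_of_mem_LJ_of_mem_VJ R h3 hv, mul_one]
  exact ht

theorem LD.conj_T {g m : Y} (hg : g ∈ LJ cs h T X J) (hm : m ∈ LJ cs h T X J) : m⁻¹ * (g⁻¹ * x g) * m ∈ T := by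
  have h3 := mul_mem (L.mem_T (mul_mem hg hm)) (inv_mem (L.mem_T hm))
  have e3 : (g * m)⁻¹ * x (g * m) * (m⁻¹ * x m)⁻¹ = m⁻¹ * (g⁻¹ * x g) * m := by
    rw [map_mul]
    group
  rwa [e3] at h3

/-- `g⁻¹ x(g)` centralises the root groups of `J` -/
theorem LD.comm_X {g : Y} (hg : g ∈ LJ cs h T X J) {a : I → ℤ} (ha : a ∈ RootsJ cs h J) {u : Y} (hu : u ∈ X a) :
    g⁻¹ * x g * u = u * (g⁻¹ * x g) := by
  obtain ⟨z, hz⟩ : ∃ z, z = g⁻¹ * x g := ⟨_, rfl⟩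
  have hzT : z ∈ T := hz ▸ L.mem_T hg
  have h1 : u * z * u⁻¹ ∈ T := by
    have := L.conj_T hg (inv_mem (X_le_LJ ha hu))
    rwa [inv_inv, ← hz] at this
  rw [← hz]
  have h2 : z * u * z⁻¹ ∈ X a := by
    rw [← R.tor a ha.1 z hzT]
    exact conj_mem_cj.2 hu
  have h3 : z * u * z⁻¹ * u⁻¹ ∈ X a ⊓ T := by
    refine ⟨(X a).mul_mem h2 ((X a).inv_mem hu), ?_⟩
    have e : z * u * z⁻¹ * u⁻¹ = z * (u * z * u⁻¹)⁻¹ := by group
    rw [e]
    exact T.mul_mem hzT (T.inv_mem h1)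
  rw [X_inf_T R ha.1, Subgroup.mem_bot] at h3
  calc z * u = (z * u * z⁻¹ * u⁻¹) * (u * z) := by group
    _ = u * z := by rw [h3, one_mul]

/-- `x` centralises the root groups of `J`, if every root of `J` is a sum of two roots of `J` -/
theorem LD.fix_X (hs : SL cs h) (hT : ∀ s ∈ T, ∀ t ∈ T, s * t = t * s)
    (hsum : ∀ a ∈ RootsJ cs h J, ∃ a₁ ∈ RootsJ cs h J, ∃ a₂ ∈ RootsJ cs h J, a = a₁ + a₂ ∧ cpr cs h a₁ a₂ = -1)
    {a : I → ℤ} (ha : a ∈ RootsJ cs h J) {u : Y} (hu : u ∈ X a) : x u = u := by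
  obtain ⟨a₁, h1, a₂, h2, e, h3⟩ := hsum a ha
  obtain ⟨u₁, hu₁, hu₁1⟩ := exists_ne R h1.1
  obtain ⟨u₂, hu₂, e2⟩ := (hs.a2 h1.1 h2.1 h3).comm_surj R hu₁ hu₁1 (w := u) (by rwa [← e])
  have g1 := X_le_LJ (T := T) h1 hu₁
  have g2 := X_le_LJ (T := T) h2 hu₂
  obtain ⟨z₁, hz₁⟩ : ∃ z, z = u₁⁻¹ * x u₁ := ⟨_, rfl⟩
  obtain ⟨z₂, hz₂⟩ : ∃ z, z = u₂⁻¹ * x u₂ := ⟨_, rfl⟩
  have x1 : x u₁ = u₁ * z₁ := by rw [hz₁]; group
  have x2 : x u₂ = u₂ * z₂ := by rw [hz₂]; group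
  have c1 : z₁ * u₁ = u₁ * z₁ := by rw [hz₁]; exact L.comm_X g1 h1 hu₁
  have c2 : z₁ * u₂ = u₂ * z₁ := by rw [hz₁]; exact L.comm_X g1 h2 hu₂
  have c3 : z₂ * u₁ = u₁ * z₂ := by rw [hz₂]; exact L.comm_X g2 h1 hu₁
  have c4 : z₂ * u₂ = u₂ * z₂ := by rw [hz₂]; exact L.comm_X g2 h2 hu₂
  have c5 : z₁ * z₂ = z₂ * z₁ := hT _ (hz₁ ▸ L.mem_T g1) _ (hz₂ ▸ L.mem_T g2)
  rw [← e2, map_commutatorElement, x1, x2]
  have k1 : u₁ * z₁ * (u₂ * z₂) = u₁ * u₂ * (z₁ * z₂) := by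
    calc u₁ * z₁ * (u₂ * z₂) = u₁ * (z₁ * u₂) * z₂ := by group
      _ = u₁ * u₂ * (z₁ * z₂) := by rw [c2]; group
  have k2 : u₂ * z₂ * (u₁ * z₁) = u₂ * u₁ * (z₁ * z₂) := by
    calc u₂ * z₂ * (u₁ * z₁) = u₂ * (z₂ * u₁) * z₁ := by group
      _ = u₂ * u₁ * (z₂ * z₁) := by rw [c3]; group
      _ = _ := by rw [c5]
  have k3 : ∀ a b : Y, ⁅a, b⁆ = a * b * (b * a)⁻¹ := fun a b => by rw [commutatorElement_def]; group
  rw [k3, k1, k2, k3]
  group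

theorem LD.b_mem [Finite Y] (hG : GG cs h T X = ⊤) (hfix : ∀ a ∈ RootsJ cs h J, ∀ u ∈ X a, x u = u) : b ∈ T := by
  have h0 : ∀ y ∈ UN cs h X, x y ∈ cj k (UN cs h X) := by
    have : UN cs h X ≤ (cj k (UN cs h X)).comap x.toMonoidHom := by
      refine RGD.Sup_le fun r hr y hy => ?_
      change x y ∈ cj k (UN cs h X)
      rcases mem_PosJ_or_NotJ J hr.1.neg (neg_nonneg.2 hr.2) with h1 | h1
      · have h2 : r ∈ RootsJ cs h J := by
          have := RootsJ.neg (PosJ_subset J h1)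
          rwa [neg_neg] at this
        rw [hfix r h2 y hy, mem_cj]
        have h3 := R.conj_mem' L.rp hr.1 hy
        refine X_le_UN (hr.1.act _) ?_ h3
        have h4 : rep cs h w⁻¹ r = r ∘ ⇑σ⁻¹ := L.wd.inv.rootsJ h2
        rw [h4]
        exact fun i => hr.2 _
      · have h2 : y ∈ VNJ cs h X J := RGD.le_Sup (S := NotNJ cs h J) h1 hy
        have h3 : x y ∈ VJ cs h X J := (L.mem_VJ_iff y).2 h2
        rw [← L.cj_VNJ] at h3
        exact cj_mono k (VNJ_le_UN J) h3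
    exact this
  have h1 : ∀ y ∈ UN cs h X, b * y * b⁻¹ ∈ UN cs h X := by
    intro y hy
    have h2 : β⁻¹ y ∈ UN cs h X := ((fix_UN' R L.diag L.cartan) _).1 (by rwa [MulAut.apply_inv_self])
    have h3 := h0 _ h2
    rw [L.apply, conj_mem_cj, MulAut.apply_inv_self] at h3
    exact h3
  have h2 : b ∈ BN cs h T X := by
    rw [← normalizer_UN R hG]
    exact Subgroup.mem_normalizer_fintype h1
  rw [← B_inf_BN R]
  exact ⟨L.mem, h2⟩

/-- `x X_r = X_{w (r ∘ σ⁻¹)}` -/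
theorem LD.map_X (hb : b ∈ T) {r : I → ℤ} (hr : IsRoot cs h r) (y : Y) :
    x y ∈ X (rep cs h w (r ∘ σ.symm)) ↔ y ∈ X r := by
  have h1 : IsRoot cs h (r ∘ σ.symm) := isRoot_comp L.matrix L.cartan hr
  rw [L.apply, ← R.conj_rp L.rp h1, conj_mem_cj, ← L.diag.root_comp R L.cartan hr y]
  conv_lhs => rw [← R.tor _ h1 b hb]
  rw [conj_mem_cj]

end Levi

end Cfsg.Agent.H808.Gs
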